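import Groth.Agent.Lib.SkExt.EquidimS2
import Groth.Agent.Lib.DualCx22.EssFT
import Groth.Agent.Lib.DualRing.ShriekRelProps
import Mathlib.AlgebraicGeometry.Morphisms.FiniteType

/-!
# An (S₂) local ring essentially of finite type over a field is equidimensional
-/

set_option autoImplicit false
universe u

open CategoryTheory AlgebraicGeometry
attribute [local instance] HasDerivedCategory.standard

namespace GrothLib.S2Equidim1

open GrothLib.DualRing in
theorem isEquidim_of_hasSk_two (k : Type u) [Field k] (A : Type u) [CommRing A] [IsLocalRing A] [IsNoetherianRing A]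
    [Algebra k A] [Algebra.EssFiniteType k A] (hS : LocCoh.HasSk 2 A A) : EGA4.IsEquidim A := by
  have hk : ∃ ω : Dual.D k, Dual.IsDualizing k ω :=
    GrothLib.DualCx22.exists_dualizing_of_surjective (MvPolynomial.isEmptyRingEquiv k (Fin 0)).toRingHom
      (MvPolynomial.isEmptyRingEquiv k (Fin 0)).surjective ⟨_, GrothLib.DualRing.Shriek.isDualizing_self_mvPolynomial k 0⟩
  obtain ⟨ω₀, hω₀⟩ := GrothLib.DualCx22.exists_dualizing_essFiniteType A hk
  have hω := isDualizing_shift hω₀ (deg hω₀ (IsLocalRing.maximalIdeal A))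
  have hn := isNormalized_shift hω₀
  obtain ⟨n, hd⟩ : ∃ n : ℕ, ringKrullDim A = n := by
    obtain ⟨n, hn⟩ := ENat.ne_top_iff_exists.1
      (Ideal.height_ne_top (I := IsLocalRing.maximalIdeal A) (IsLocalRing.maximalIdeal.isMaximal A).ne_top)
    exact ⟨n, by rw [← IsLocalRing.maximalIdeal_height_eq_ringKrullDim, ← hn]; rfl⟩
  intro p hp
  haveI := hp.1.1
  rw [ringKrullDim_quotient_eq hω hn p, GrothLib.SkExt.deg_minimal_of_hasSk_two hω hn hS n hd p hp, hd, neg_neg,
    Int.toNat_natCast]

/-- On an algebraic scheme the local rings satisfying (S₂) are equidimensional. -/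
theorem isEquidim_stalk {k : Type u} [Field k] {W : Scheme.{u}} (q : W ⟶ Spec (CommRingCat.of k))
    [LocallyOfFiniteType q] (w : W) (hS : LocCoh.HasSk 2 (W.presheaf.stalk w) (W.presheaf.stalk w)) :
    EGA4.IsEquidim (W.presheaf.stalk w) := by
  haveI : IsLocallyNoetherian W := LocallyOfFiniteType.isLocallyNoetherian q
  obtain ⟨U, hU, hwU, -⟩ := TopologicalSpace.Opens.isBasis_iff_nbhd.1 W.isBasis_affineOpens (TopologicalSpace.Opens.mem_top w)
  have hft : ((q.appLE ⊤ U le_top).hom).FiniteType :=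
    LocallyOfFiniteType.finiteType_appLE q (isAffineOpen_top _) hU _
  letI : Algebra k Γ(W, U) := ((Scheme.ΓSpecIso (CommRingCat.of k)).inv ≫ q.appLE ⊤ U le_top).hom.toAlgebra
  haveI : Algebra.FiniteType k Γ(W, U) := hft.comp (RingHom.FiniteType.of_surjective
    (Scheme.ΓSpecIso (CommRingCat.of k)).inv.hom (Scheme.ΓSpecIso (CommRingCat.of k)).symm.commRingCatIsoToRingEquiv.surjective)
  letI := W.presheaf.algebra_section_stalk (⟨w, hwU⟩ : U)
  haveI := hU.isLocalization_stalk ⟨w, hwU⟩
  letI : Algebra k (W.presheaf.stalk w) :=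
    ((algebraMap Γ(W, U) (W.presheaf.stalk w)).comp (algebraMap k Γ(W, U))).toAlgebra
  haveI : IsScalarTower k Γ(W, U) (W.presheaf.stalk w) := IsScalarTower.of_algebraMap_eq' rfl
  haveI : Algebra.EssFiniteType Γ(W, U) (W.presheaf.stalk w) :=
    Algebra.EssFiniteType.of_isLocalization (W.presheaf.stalk w) (hU.primeIdealOf ⟨w, hwU⟩).asIdeal.primeCompl
  haveI : Algebra.EssFiniteType k (W.presheaf.stalk w) := Algebra.EssFiniteType.comp k Γ(W, U) _
  exact isEquidim_of_hasSk_two k (W.presheaf.stalk w) hS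

end GrothLib.S2Equidim1
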